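import Mathlib.RingTheory.DividedPowerAlgebra.Init
import Mathlib.RingTheory.Localization.BaseChange
import Mathlib.RingTheory.TensorProduct.Basic

/-! # Spans of divided powers -/

universe u

open scoped TensorProduct

namespace Groth.Agent.Misc26

theorem span_dp_eq {A A' M : Type u} [CommRing A] [CommRing A'] [Algebra A A'] [AddCommGroup M] [Module A M]
    (d : ℕ) (h : ∀ z : A' ⊗[A] M, ∃ (c : A') (m : M), z = c • ((1 : A') ⊗ₜ[A] m)) :
    Submodule.span A' (Set.range fun m : M => DividedPowerAlgebra.dp A' d ((1 : A') ⊗ₜ[A] m)) =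
      Submodule.span A' (Set.range (DividedPowerAlgebra.dp A' d (M := A' ⊗[A] M))) := by
  refine le_antisymm (Submodule.span_mono ?_) (Submodule.span_le.2 ?_)
  · rintro _ ⟨m, rfl⟩; exact ⟨_, rfl⟩
  · rintro _ ⟨z, rfl⟩
    obtain ⟨c, m, rfl⟩ := h z
    rw [DividedPowerAlgebra.dp_smul, SetLike.mem_coe]
    exact Submodule.smul_mem _ _ (Submodule.subset_span ⟨m, rfl⟩)

theorem exists_smul_one_tmul_of_surjective {A A' M : Type u} [CommRing A] [CommRing A'] [Algebra A A']
    [AddCommGroup M] [Module A M] (hA : Function.Surjective (algebraMap A A')) (z : A' ⊗[A] M) :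
    ∃ (c : A') (m : M), z = c • ((1 : A') ⊗ₜ[A] m) := by
  obtain ⟨m, rfl⟩ := TensorProduct.mk_surjective A M A' hA z
  exact ⟨1, m, (one_smul _ _).symm⟩

theorem exists_smul_one_tmul_of_isLocalization {A A' M : Type u} [CommRing A] [CommRing A'] [Algebra A A']
    (T : Submonoid A) [IsLocalization T A'] [AddCommGroup M] [Module A M] (z : A' ⊗[A] M) :
    ∃ (c : A') (m : M), z = c • ((1 : A') ⊗ₜ[A] m) := by
  haveI : IsLocalizedModule T (TensorProduct.mk A A' M 1) :=
    (isLocalizedModule_iff_isBaseChange T A' _).2 (TensorProduct.isBaseChange A M A')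
  obtain ⟨⟨m, t⟩, hm⟩ := IsLocalizedModule.surj T (TensorProduct.mk A A' M 1) z
  refine ⟨IsLocalization.mk' A' 1 t, m, ?_⟩
  rw [show ((1 : A') ⊗ₜ[A] m) = TensorProduct.mk A A' M 1 m from rfl, ← hm, Submonoid.smul_def,
    ← IsScalarTower.algebraMap_smul A' (t : A), smul_smul, IsLocalization.mk'_spec, map_one, one_smul]

end Groth.Agent.Misc26
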