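import Mathlib.RingTheory.GradedAlgebra.Basic
import Mathlib.Algebra.GCDMonoid.Finset
import Mathlib.Algebra.GCDMonoid.Nat
import Mathlib.RingTheory.MvPolynomial.Homogeneous
import Mathlib.AlgebraicGeometry.ProjectiveSpectrum.Basic
import Mathlib.Algebra.Algebra.Operations

/-! # Degrees divisible by the lcm of the generators' degrees -/

universe u

open AlgebraicGeometry

namespace Groth.Agent.Misc26

variable {R A : Type u} [CommRing R] [CommRing A] [Algebra R A] (𝒜 : ℕ → Submodule R A) [GradedAlgebra 𝒜]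
  {s : ℕ} {f : Fin s → A} {deg : Fin s → ℕ}

theorem prod_pow_mem (hf : ∀ i, f i ∈ 𝒜 (deg i)) (e : Fin s → ℕ) : ∏ i, f i ^ e i ∈ 𝒜 (∑ i, e i * deg i) :=
  SetLike.prod_pow_mem_graded (A := 𝒜) (i := deg) (g := f) (F := Finset.univ) e (fun i _ => hf i)

theorem graded_eq_span (hf : ∀ i, f i ∈ 𝒜 (deg i)) (hgen : Algebra.adjoin R (Set.range f) = ⊤) (n : ℕ) :
    𝒜 n = Submodule.span R {x | ∃ e : Fin s → ℕ, ∑ i, e i * deg i = n ∧ x = ∏ i, f i ^ e i} := by
  refine le_antisymm (fun x hx => ?_) (Submodule.span_le.2 ?_)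
  · have hxr : x ∈ (MvPolynomial.aeval (R := R) f).range := by
      rw [← Algebra.adjoin_range_eq_range_aeval, hgen]; trivial
    obtain ⟨P, hP⟩ : ∃ P, MvPolynomial.aeval (R := R) f P = x := hxr
    subst hP
    have hkey : GradedAlgebra.proj 𝒜 n (MvPolynomial.aeval f P) = MvPolynomial.aeval f P := by
      rw [GradedAlgebra.proj_apply]; exact DirectSum.decompose_of_mem_same 𝒜 hx
    show MvPolynomial.aeval f P ∈ _
    rw [← hkey, MvPolynomial.as_sum P, map_sum, map_sum]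
    refine Submodule.sum_mem _ fun m _ => ?_
    rw [MvPolynomial.aeval_monomial, ← Algebra.smul_def, map_smul]
    refine Submodule.smul_mem _ _ ?_
    rw [Finsupp.prod_fintype _ _ (fun i => pow_zero _)]
    by_cases hd : ∑ i, m i * deg i = n
    · rw [GradedAlgebra.proj_apply, DirectSum.decompose_of_mem_same 𝒜 (hd ▸ prod_pow_mem 𝒜 hf (fun i => m i))]
      exact Submodule.subset_span ⟨fun i => m i, hd, rfl⟩
    · rw [GradedAlgebra.proj_apply, DirectSum.decompose_of_mem_ne 𝒜 (prod_pow_mem 𝒜 hf (fun i => m i)) hd]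
      exact Submodule.zero_mem _
  · rintro _ ⟨e, rfl, rfl⟩
    exact prod_pow_mem 𝒜 hf e

theorem mul_le (m n : ℕ) : 𝒜 m * 𝒜 n ≤ 𝒜 (m + n) :=
  Submodule.mul_le.2 fun _ ha _ hb => SetLike.mul_mem_graded ha hb

theorem degree_add_lcm (hdeg : ∀ i, 0 < deg i) (hf : ∀ i, f i ∈ 𝒜 (deg i))
    (hgen : Algebra.adjoin R (Set.range f) = ⊤) (n : ℕ) (hn : (s - 1) * (Finset.univ.lcm deg - 1) ≤ n) :
    𝒜 (n + Finset.univ.lcm deg) = 𝒜 n * 𝒜 (Finset.univ.lcm deg) := by
  refine le_antisymm ?_ (mul_le 𝒜 _ _)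
  rw [graded_eq_span 𝒜 hf hgen, Submodule.span_le]
  rintro _ ⟨e, he, rfl⟩
  set l := Finset.univ.lcm deg
  have hdvd : ∀ i, deg i ∣ l := fun i => Finset.dvd_lcm (Finset.mem_univ i)
  have hl : 0 < l := Nat.pos_of_ne_zero fun h => by
    obtain ⟨i, -, hi⟩ := Finset.lcm_eq_zero_iff.1 h
    exact (hdeg i).ne' hi
  obtain ⟨i, hi⟩ : ∃ i, l ≤ e i * deg i := by
    by_contra hc
    push Not at hc
    have h1 : ∑ i, e i * deg i ≤ s * (l - 1) := by
      refine (Finset.sum_le_card_nsmul _ _ (l - 1) fun i _ => Nat.le_sub_one_of_lt (hc i)).trans ?_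
      simp
    rw [he] at h1
    rcases Nat.eq_zero_or_pos s with h0 | h0
    · subst h0; simp at h1; omega
    · obtain ⟨t, rfl⟩ : ∃ t, s = t + 1 := ⟨s - 1, by omega⟩
      simp only [Nat.add_sub_cancel] at hn
      rw [add_mul, one_mul] at h1
      omega
  obtain ⟨c, hc⟩ := hdvd i
  have hce : c ≤ e i := Nat.le_of_mul_le_mul_right (by rw [mul_comm c, ← hc]; exact hi) (hdeg i)
  let e' := Function.update e i (e i - c)
  have hsum : ∑ j, e' j * deg j = n := by
    have h1 := Finset.add_sum_erase Finset.univ (fun j => e' j * deg j) (Finset.mem_univ i)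
    have h2 := Finset.add_sum_erase Finset.univ (fun j => e j * deg j) (Finset.mem_univ i)
    have h3 : ∑ j ∈ Finset.univ.erase i, e' j * deg j = ∑ j ∈ Finset.univ.erase i, e j * deg j :=
      Finset.sum_congr rfl fun j hj => by simp only [e', Function.update_of_ne (Finset.ne_of_mem_erase hj)]
    simp only [e', Function.update_self, Nat.sub_mul] at h1 h3
    rw [← h1, h3]
    rw [he] at h2
    have : c * deg i ≤ e i * deg i := Nat.mul_le_mul_right _ hce
    rw [mul_comm] at hc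
    omega
  have hprod : ∏ j, f j ^ e j = (∏ j, f j ^ e' j) * f i ^ c := by
    rw [← Finset.mul_prod_erase Finset.univ (fun j => f j ^ e j) (Finset.mem_univ i),
      ← Finset.mul_prod_erase Finset.univ (fun j => f j ^ e' j) (Finset.mem_univ i)]
    have h4 : ∏ j ∈ Finset.univ.erase i, f j ^ e' j = ∏ j ∈ Finset.univ.erase i, f j ^ e j :=
      Finset.prod_congr rfl fun j hj => by simp only [e', Function.update_of_ne (Finset.ne_of_mem_erase hj)]
    rw [h4, show e' i = e i - c from Function.update_self .., mul_right_comm, ← pow_add, Nat.sub_add_cancel hce]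
  rw [SetLike.mem_coe, hprod]
  refine Submodule.mul_mem_mul (hsum ▸ prod_pow_mem 𝒜 hf e') ?_
  rw [show l = c • deg i by rw [hc, smul_eq_mul, mul_comm]]
  exact SetLike.pow_mem_graded c (hf i)

theorem degree_zero (hdeg : ∀ i, 0 < deg i) (hf : ∀ i, f i ∈ 𝒜 (deg i))
    (hgen : Algebra.adjoin R (Set.range f) = ⊤) : 𝒜 0 = 1 := by
  refine le_antisymm ?_ (by rw [Submodule.one_le]; exact SetLike.one_mem_graded 𝒜)
  rw [graded_eq_span 𝒜 hf hgen, Submodule.span_le]
  rintro _ ⟨e, he, rfl⟩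
  have h0 : ∀ i, e i = 0 := fun i => by
    have := Finset.sum_eq_zero_iff.1 he i (Finset.mem_univ i)
    exact (mul_eq_zero.1 this).resolve_right (hdeg i).ne'
  simp only [h0, pow_zero, Finset.prod_const_one, SetLike.mem_coe]
  exact Submodule.one_le.1 le_rfl

theorem pow_le (m k : ℕ) : 𝒜 m ^ k ≤ 𝒜 (k * m) := by
  induction k with
  | zero => rw [pow_zero, Nat.zero_mul, Submodule.one_le]; exact SetLike.one_mem_graded 𝒜
  | succ k ih => rw [pow_succ, Nat.succ_mul]; exact (mul_le_mul_left ih (𝒜 m)).trans (mul_le 𝒜 _ _)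

theorem degree_mul_eq_pow (hdeg : ∀ i, 0 < deg i) (hf : ∀ i, f i ∈ 𝒜 (deg i))
    (hgen : Algebra.adjoin R (Set.range f) = ⊤) (a : ℕ) (ha : s - 1 ≤ a) (k : ℕ) :
    𝒜 (k * (a * Finset.univ.lcm deg)) = 𝒜 (a * Finset.univ.lcm deg) ^ k := by
  set l := Finset.univ.lcm deg
  have step : ∀ m, (s - 1) * (l - 1) ≤ m → ∀ j, 𝒜 (m + j * l) = 𝒜 m * 𝒜 l ^ j := by
    intro m hm j
    induction j with
    | zero => rw [Nat.zero_mul, add_zero, pow_zero, mul_one]
    | succ j ih =>
      rw [Nat.succ_mul, ← add_assoc, degree_add_lcm 𝒜 hdeg hf hgen _ (hm.trans (Nat.le_add_right _ _)), ih, pow_succ,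
        mul_assoc]
  refine le_antisymm ?_ (pow_le 𝒜 _ k)
  induction k with
  | zero => rw [Nat.zero_mul, pow_zero, degree_zero 𝒜 hdeg hf hgen]
  | succ k ih =>
    rcases Nat.eq_zero_or_pos k with rfl | hk
    · rw [zero_add, Nat.one_mul, pow_one]
    · have hm : (s - 1) * (l - 1) ≤ k * (a * l) :=
        (Nat.mul_le_mul ha (Nat.sub_le l 1)).trans (Nat.le_mul_of_pos_left _ hk)
      rw [Nat.succ_mul, step _ hm a, pow_succ]
      exact mul_le_mul' ih (pow_le 𝒜 l a)

theorem iSup_basicOpen_eq_top (hdeg : ∀ i, 0 < deg i) (hf : ∀ i, f i ∈ 𝒜 (deg i))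
    (hgen : Algebra.adjoin R (Set.range f) = ⊤) (a : ℕ) (ha : 0 < a) :
    (⨆ g : 𝒜 (a * Finset.univ.lcm deg), Proj.basicOpen 𝒜 (g : A)) = ⊤ := by
  set l := Finset.univ.lcm deg
  rw [eq_top_iff]
  intro x _
  obtain ⟨i, hi⟩ : ∃ i, f i ∉ x.asHomogeneousIdeal := by
    by_contra hc
    push Not at hc
    refine x.not_irrelevant_le fun y hy => ?_
    classical
    rw [← DirectSum.sum_support_decompose 𝒜 y]
    refine sum_mem fun n hn => ?_
    rcases Nat.eq_zero_or_pos n with rfl | hn0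
    · rw [HomogeneousIdeal.mem_irrelevant_iff, GradedRing.proj_apply] at hy
      rw [hy]; exact zero_mem _
    · have hmem := (graded_eq_span 𝒜 hf hgen n).le (Subtype.coe_prop (DirectSum.decompose 𝒜 y n))
      refine Submodule.span_le (p := (x.asHomogeneousIdeal.toIdeal.restrictScalars R)).2 ?_ hmem
      rintro _ ⟨e, he, rfl⟩
      obtain ⟨i, hi⟩ : ∃ i, e i ≠ 0 := by
        by_contra h0
        push Not at h0
        simp [h0] at he
        omega
      refine Ideal.mem_of_dvd _ (Finset.dvd_prod_of_mem _ (Finset.mem_univ i)) ?_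
      exact Ideal.pow_mem_of_mem _ (hc i) _ (Nat.pos_of_ne_zero hi)
  obtain ⟨c, hc⟩ : deg i ∣ l := Finset.dvd_lcm (Finset.mem_univ i)
  have hmem : f i ^ (a * c) ∈ 𝒜 (a * l) := by
    rw [show a * l = (a * c) • deg i by rw [hc, smul_eq_mul]; ring]
    exact SetLike.pow_mem_graded _ (hf i)
  refine TopologicalSpace.Opens.mem_iSup.2 ⟨⟨_, hmem⟩, ?_⟩
  rw [Proj.mem_basicOpen]
  exact fun h => hi (x.isPrime.mem_of_pow_mem _ h)

end Groth.Agent.Misc26
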