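import Mathlib.RingTheory.PolynomialLaw.Basic
import Mathlib.RingTheory.TensorProduct.Maps

/-! # Multiplicativity of polynomial laws is detected on polynomial rings -/

universe u v w

open scoped TensorProduct

namespace Groth.Agent.Misc26

theorem rTensor_eq_map {A : Type u} [CommRing A] {B : Type v} [CommRing B] [Algebra A B] {S T : Type u}
    [CommRing S] [CommRing T] [Algebra A S] [Algebra A T] (ψ : S →ₐ[A] T) (x : S ⊗[A] B) :
    ψ.toLinearMap.rTensor B x = Algebra.TensorProduct.map ψ (AlgHom.id A B) x := by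
  induction x using TensorProduct.induction_on with
  | zero => simp
  | tmul s b => rfl
  | add x y hx hy => rw [map_add, map_add, hx, hy]

theorem multiplicative_of_mvPolynomial {A : Type u} [CommRing A] {B : Type v} [CommRing B] [Algebra A B]
    {C : Type w} [CommRing C] [Algebra A C] (F : B →ₚₗ[A] C)
    (h1 : ∀ n : ℕ, F.toFun' (MvPolynomial (Fin n) A) 1 = 1)
    (hmul : ∀ (n : ℕ) (x y : MvPolynomial (Fin n) A ⊗[A] B),
      F.toFun' (MvPolynomial (Fin n) A) (x * y) = F.toFun' (MvPolynomial (Fin n) A) x * F.toFun' (MvPolynomial (Fin n) A) y)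
    (S : Type u) [CommRing S] [Algebra A S] :
    F.toFun' S 1 = 1 ∧ ∀ x y : S ⊗[A] B, F.toFun' S (x * y) = F.toFun' S x * F.toFun' S y := by
  constructor
  · let ψ : MvPolynomial (Fin 0) A →ₐ[A] S := MvPolynomial.aeval fun i => i.elim0
    have h := PolynomialLaw.isCompat_apply' (f := F) ψ 1
    rw [h1 0, rTensor_eq_map, rTensor_eq_map, map_one, map_one] at h
    exact h.symm
  · intro x y
    obtain ⟨P, hP, hx⟩ := TensorProduct.Algebra.exists_of_fg x
    obtain ⟨Q, hQ, hy⟩ := TensorProduct.Algebra.exists_of_fg y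
    obtain ⟨s, hs⟩ := PolynomialLaw.exists_range_φ_eq_of_fg (hP.sup hQ)
    obtain ⟨p, hp⟩ := PolynomialLaw.exists_lift_of_mem_range_rTensor P (hs ▸ le_sup_left) hx
    obtain ⟨q, hq⟩ := PolynomialLaw.exists_lift_of_mem_range_rTensor Q (hs ▸ le_sup_right) hy
    have hx' := PolynomialLaw.isCompat_apply' (f := F) (PolynomialLaw.φ A s) p
    have hy' := PolynomialLaw.isCompat_apply' (f := F) (PolynomialLaw.φ A s) q
    have hxy := PolynomialLaw.isCompat_apply' (f := F) (PolynomialLaw.φ A s) (p * q)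
    rw [hmul, rTensor_eq_map, map_mul, ← rTensor_eq_map, ← rTensor_eq_map, hx', hy', rTensor_eq_map _ (p * q),
      map_mul, ← rTensor_eq_map, ← rTensor_eq_map, hp, hq] at hxy
    exact hxy.symm

end Groth.Agent.Misc26
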